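import Cfsg.Agent.SF.Final

/-! `{2, p}`-transpositions for a prime `p ≥ 5`. -/

set_option linter.unusedSectionVars false

namespace CfsgSF

open MulAction Subgroup
open CfsgBS (inv_eq_of_sq sq_smul odd_card_iff eq_one_of_odd_orderOf R1 SEA HasFour)

universe u

variable {G : Type u} [Group G] [Finite G] {p : ℕ}

/-- a normal set of `{2, p}`-transpositions -/
structure TP (p : ℕ) (E : Set G) : Prop where
  prime : p.Prime
  five : 5 ≤ p
  conj : ∀ g : G, ∀ d ∈ E, g * d * g⁻¹ ∈ E
  sq : ∀ d ∈ E, d * d = 1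
  ord : ∀ d ∈ E, ∀ e ∈ E, d * e = e * d ∨ (d * e) ^ p = 1

/-- no non-central four-group consists of transpositions -/
def NT (G : Type u) [Group G] (p : ℕ) : Prop :=
  ∀ E : Set G, TP p E → ∀ a ∈ E, ∀ b ∈ E, ∀ c ∈ E, a * b ∈ E → a * c ≠ c * a → b * c ≠ c * b →
    a * b * c ≠ c * (a * b) → False

/-- the induction hypothesis -/
def IHT (n p : ℕ) : Prop := ∀ (G : Type u) [Group G] [Finite G], Nat.card G < n → NT G p

theorem comm_of_pow {g x : G} {k : ℕ} (hx : x ^ p = 1) (hk : k.Coprime p) (e : g * x ^ k = x ^ k * g) :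
    g * x = x * g :=
  (mem_c1.1 ((zpowers_le.2 (mem_c1.2 e)) (mem_zpowers_pow_iff.2
    (hk.coprime_dvd_right (orderOf_dvd_of_pow_eq_one hx)))))

namespace TP

variable {E : Set G} (T : TP p E)
include T

theorem odd : Odd p := T.prime.odd_of_ne_two (by have := T.five; omega)

theorem cop2 : Nat.Coprime 2 p := Nat.coprime_two_left.2 T.odd

theorem cop3 : Nat.Coprime 3 p :=
  (Nat.coprime_primes Nat.prime_three T.prime).2 (by have := T.five; omega)

theorem cj {d e : G} (hd : d ∈ E) (he : e ∈ E) : d * e * d ∈ E := by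
  simpa only [inv_eq_of_sq (T.sq d hd)] using T.conj d e he

theorem eq_one {x : G} {k : ℕ} (h1 : x ^ p = 1) (h2 : x ^ 2 ^ k = 1) : x = 1 :=
  orderOf_eq_one_iff.1 (Nat.eq_one_of_dvd_coprimes (T.cop2.pow_left k)
    (orderOf_dvd_of_pow_eq_one h2) (orderOf_dvd_of_pow_eq_one h1))

theorem comm_of_two {d e : G} (hd : d ∈ E) (he : e ∈ E) {k : ℕ} (h : (d * e) ^ 2 ^ k = 1) :
    d * e = e * d :=
  (T.ord d hd e he).elim id fun h1 => comm_of_sq (T.sq d hd) (T.sq e he) (by rw [T.eq_one h1 h, mul_one])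

/-- an element commuting with `c` and `c ^ u` commutes with `u` -/
theorem comm_line {c u g : G} (hc : c ∈ E) (hu : u ∈ E) (hn : c * u ≠ u * c) (h1 : g * c = c * g)
    (h2 : g * (u * c * u) = u * c * u * g) : g * u = u * g := by
  have := comm_of_pow ((T.ord c hc u hu).resolve_left hn) T.cop2 (g := g) (by
    rw [pow_two, mul_assoc c u, ← mul_assoc u]; exact (Commute.mul_right h1 h2).eq)
  rw [← sq_mul_cancel (T.sq c hc) u]
  exact (Commute.mul_right h1 this).eq

theorem sec (IH : IHT.{u} (Nat.card G) p) {M : Subgroup G} {G' : Type u} [Group G'] (φ : M →* G')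
    (hφ : Function.Surjective φ) (hlt : Nat.card G' < Nat.card G)
    (ker : ∀ x, φ x = 1 → ∃ k, x ^ 2 ^ k = 1) {a b c e : M} (ha : (a : G) ∈ E) (hb : (b : G) ∈ E)
    (hc : (c : G) ∈ E) (he : (e : G) ∈ E) (hab : φ a * φ b = φ e) (h1 : (a : G) * c ≠ c * a)
    (h2 : (b : G) * c ≠ c * b) (h3 : (e : G) * c ≠ c * e) : False := by
  haveI := Finite.of_surjective φ hφ
  have nc : ∀ x : M, (x : G) ∈ E → φ x * φ c = φ c * φ x → (x : G) * c = c * x := fun x hx e => by
    obtain ⟨k, hk⟩ := ker (x * c * (x * c)) (by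
      simp only [map_mul]
      refine sq_of_comm ?_ ?_ e <;> rw [← map_mul] <;> convert map_one φ <;> apply Subtype.ext
      exacts [T.sq _ hx, T.sq _ hc])
    exact T.comm_of_two hx hc (k := k + 1) (by
      rw [pow_succ', pow_mul, pow_two]; exact congrArg Subtype.val hk)
  refine IH G' hlt (φ '' {x | (x : G) ∈ E}) ⟨T.prime, T.five, fun g => ?_, ?_, ?_⟩ _ ⟨a, ha, rfl⟩ _
    ⟨b, hb, rfl⟩ _ ⟨c, hc, rfl⟩ ⟨e, he, hab.symm⟩ (mt (nc a ha) h1) (mt (nc b hb) h2)
    (hab ▸ mt (nc e he) h3)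
  · obtain ⟨g, rfl⟩ := hφ g
    rintro _ ⟨d, hd, rfl⟩
    exact ⟨g * d * g⁻¹, T.conj g d hd, by simp⟩
  · rintro _ ⟨d, hd, rfl⟩
    rw [← map_mul, show d * d = 1 from Subtype.ext (T.sq d hd), map_one]
  · rintro _ ⟨d, hd, rfl⟩ _ ⟨d', hd', rfl⟩
    simp only [← map_mul, ← map_pow]
    exact (T.ord d hd d' hd').imp (fun h => congrArg φ (Subtype.ext h))
      fun h => by rw [show (d * d') ^ p = 1 from Subtype.ext h, map_one]

theorem typeI (IH : IHT.{u} (Nat.card G) p) {a b x : G} (ha : a ∈ E) (hb : b ∈ E) (hx : x ∈ E)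
    (c : a * b = b * a) (hw : a * b ∉ E) (h1 : a * x ≠ x * a) (h2 : b * x ≠ x * b) :
    a * x * a * (b * x * b) = b * x * b * (a * x * a) := by
  have a2 := T.sq a ha
  have b2 := T.sq b hb
  have x2 := T.sq x hx
  have w2 := sq_of_comm a2 b2 c
  suffices H : x * (a * b * x * (a * b)) = a * b * x * (a * b) * x by
    have := congrArg (fun y => a * y * a) H
    have c' : ∀ y, b * (a * y) = a * (b * y) := fun y => by rw [← mul_assoc, ← c, mul_assoc]
    simpa only [mul_assoc, c', ← c, sq_mul_cancel a2, a2, mul_one] using this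
  by_contra hn
  have hab : a ≠ b := fun e => hn (by simp [← e, a2])
  generalize hw' : a * b = w at w2 hn hw
  have hxw : w * x * w ∈ E := by simpa only [inv_eq_of_sq w2] using T.conj w x hx
  have h3 := (T.ord x hx _ hxw).resolve_left hn
  obtain ⟨k, hk⟩ := T.odd
  have z2 : (x * w) ^ p * (x * w) ^ p = 1 := by
    rw [← Commute.mul_pow rfl, ← h3]; simp only [mul_assoc]
  have zx := (CfsgH4.dih_commute_left x2 w2 (pow_mem (mem_zpowers _) p) z2).eq
  have zw := (CfsgH4.dih_commute_right x2 w2 (pow_mem (mem_zpowers _) p) z2).eq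
  have he : w * (x * w) ^ p ∈ E := by
    have := T.conj (((x * w) ^ k)⁻¹ * w) x hx
    have e1 : ∀ n, w * (x * w) ^ n = ((x * w) ^ n)⁻¹ * w := fun n => by
      rw [← CfsgH4.inverts_pow (CfsgH4.dih_inv_right x2 w2), inv_mul_cancel_right]
    convert this using 1
    rw [hk, two_mul, pow_succ', pow_add, mul_inv_rev, inv_inv, inv_eq_of_sq w2, ← e1]
    rw [← mul_assoc (x * w), ← (Commute.pow_self (x * w) k).eq]
    simp only [mul_assoc]
  generalize (x * w) ^ p = z at z2 zx zw he
  have ew : w * z * w = w * (w * z) := by rw [mul_assoc, zw]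
  have e2 := T.sq _ he
  generalize he' : w * z = e at he ew e2
  have ea : a * e * a = b * e * b := by
    calc _ = a * (w * (e * w)) * a := by rw [ew, sq_mul_cancel w2]
      _ = _ := by rw [← hw']; nth_rw 2 [c]; simp only [mul_assoc, sq_mul_cancel a2, a2, mul_one]
  have ae : e * a = a * e := by_contra fun hne => by
    have hne' : e * b ≠ b * e := fun e3 => hne (comm_of_conj (by
      rw [inv_eq_of_sq a2, ea, ← e3, mul_sq_cancel b2])).symm
    have p1 := (T.ord e he a ha).resolve_left hne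
    have p2 := (T.ord e he b hb).resolve_left hne'
    refine hab (mul_left_cancel (a := e) ?_)
    have k1 : ∀ y : G, y ^ p = 1 → y = (y * y) ^ (k + 1) := fun y hy => by
      rw [← pow_two, ← pow_mul, show 2 * (k + 1) = 2 * k + 1 + 1 by ring, pow_succ, ← hk, hy, one_mul]
    rw [k1 _ p1, k1 _ p2, mul_assoc e a, ← mul_assoc a, ea]; simp only [mul_assoc]
  have be : e * b = b * e := (comm_of_conj (by
    rw [inv_eq_of_sq b2, ← ea, ← ae, mul_sq_cancel a2])).symm
  have ze : z = w * e := by rw [← he', sq_mul_cancel w2]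
  have za : z * a = a * z := by
    rw [ze, ← hw']; exact (Commute.mul_left (Commute.mul_left rfl c.symm) ae).eq
  have zb : z * b = b * z := by
    rw [ze, ← hw']; exact (Commute.mul_left (Commute.mul_left c rfl) be).eq
  have z1 : z ≠ 1 := fun e3 => hw (by rwa [← he', e3, mul_one] at he)
  have zM : z ∈ centralizer {z} := mem_c1.2 rfl
  haveI : (zpowers (⟨z, zM⟩ : centralizer {z})).Normal := ⟨by
    rintro _ ⟨n, rfl⟩ g
    rw [conj_eq_of_comm (Commute.zpow_right (Subtype.ext (mem_c1.1 g.2).symm) n).eq]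
    exact ⟨n, rfl⟩⟩
  refine T.sec IH (QuotientGroup.mk' (zpowers (⟨z, zM⟩ : centralizer {z})))
    (QuotientGroup.mk'_surjective _) ?_ (fun y hy => CfsgH1.isPGroup_iff_forall.1
      (isP_zpowers (p := 2) (j := 1) (Subtype.ext (by simpa [pow_two] using z2))) y
      ((QuotientGroup.eq_one_iff _).1 hy)) (a := ⟨a, mem_c1.2 za⟩) (b := ⟨b, mem_c1.2 zb⟩)
    (c := ⟨x, mem_c1.2 zx⟩) (e := ⟨e, mem_c1.2 (by rw [← he', ← mul_assoc, zw, mul_assoc])⟩)
    ha hb hx he ?_ h1 h2 fun e3 => hn ?_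
  · refine lt_of_lt_of_le ?_ (card_le_card_group (centralizer {z}))
    rw [← index_eq_card, ← (zpowers _).index_mul_card]
    exact lt_mul_of_one_lt_right (Nat.pos_of_ne_zero index_ne_zero_of_finite)
      ((one_lt_card_iff_ne_bot _).2 (by simpa [Subtype.ext_iff] using z1))
  · rw [← map_mul]
    exact QuotientGroup.eq.2 ⟨1, Subtype.ext (by simp [hw', ← he'])⟩
  · have : w * x = x * w := by
      rw [← mul_sq_cancel z2 w, he']; exact (Commute.mul_left e3 zx).eq
    exact (Commute.mul_right (Commute.mul_right this.symm rfl) this.symm).eq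

theorem cent_eq {a b z : G} (ha : a ∈ E) (hb : b ∈ E) (hz : z ∈ E) (hab : a * b ∈ E) (a1 : a ≠ 1)
    (c : z * a = a * z) : z * b = b * z := by
  by_contra hn
  have h1 := (T.ord z hz b hb).resolve_left hn
  have cab := comm_of_sq (T.sq a ha) (T.sq b hb) (T.sq _ hab)
  have h2 := (T.ord z hz _ hab).resolve_left fun e => hn (by
    rw [← sq_mul_cancel (T.sq a ha) b]; exact (Commute.mul_right c e).eq)
  rw [← mul_assoc, c, mul_assoc, Commute.mul_pow (Commute.mul_right c.symm cab), h1, mul_one] at h2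
  exact a1 (T.eq_one h2 (k := 1) (by rw [pow_one, pow_two, T.sq a ha]))

theorem two_group (IH : IHT.{u} (Nat.card G) p) {a b : G} (ha : a ∈ E) (hb : b ∈ E)
    (c : a * b = b * a) (hw : a * b ∉ E) (hC : ∀ x ∈ E, a * x = x * a ↔ b * x = x * b) :
    IsPGroup 2 (normalClosure {a * b}) := by
  have a2 := T.sq a ha
  have b2 := T.sq b hb
  have w2 := sq_of_comm a2 b2 c
  have k : ∀ x ∈ E, Commute x (a * b * x * (a * b)) := fun x hx => by
    by_cases h1 : a * x = x * a
    · have := Commute.mul_left h1 ((hC x hx).1 h1)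
      exact (this.symm.mul_right rfl).mul_right this.symm
    have := congrArg (fun y => a * y * a) (T.typeI IH ha hb hx c hw h1 (mt (hC x hx).2 h1))
    simp only [mul_assoc, sq_mul_cancel a2, a2, mul_one] at this
    rw [← c] at this
    show _ = _
    simp only [mul_assoc]
    rw [this, ← mul_assoc b a, ← c, mul_assoc]
  refine CfsgH4.baer_suzuki_elt _ fun g => CfsgH4.dih_isPGroup w2 (by rw [conj_mul, w2]; group)
    (k := 2) ?_
  have hC' : ∀ x ∈ E, Commute (g * a * g⁻¹) x ↔ Commute (g * b * g⁻¹) x := fun x hx => by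
    have := hC _ (T.conj g⁻¹ x hx)
    have k : ∀ a : G, Commute (g * a * g⁻¹) x ↔ a * (g⁻¹ * x * g⁻¹⁻¹) = g⁻¹ * x * g⁻¹⁻¹ * a :=
      fun a => ⟨fun h => mem_c1.1 (c1_map (u := g * a * g⁻¹) (by group) x (mem_c1.2 h)),
        fun h => show _ = _ by simpa [mul_assoc] using mem_c1.1 (c1_map (g := g) rfl _ (mem_c1.2 h))⟩
    rwa [k, k]
  have hE : ∀ x ∈ E, a * b * x * (a * b) ∈ E := fun x hx => by
    simpa only [inv_eq_of_sq w2] using T.conj (a * b) x hx
  have ha' := T.conj g a ha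
  have hb' := T.conj g b hb
  have h1 := k _ ha'
  have h2 := k _ hb'
  have h3 := (h1.mul_left ((hC' _ (hE _ ha')).1 h1)).mul_right
    (((hC' _ (hE _ hb')).2 h2).mul_left h2)
  have v2 : g * (a * b) * g⁻¹ * (g * (a * b) * g⁻¹) = 1 := by rw [conj_mul, w2]; group
  rw [conj_mul, show ∀ x y : G, a * b * x * (a * b) * (a * b * y * (a * b)) = a * b * (x * y) * (a * b)
    from fun x y => by rw [mul_assoc _ (a * b), mul_assoc (a * b) y, sq_mul_cancel w2]; group,
    conj_mul] at h3
  generalize g * (a * b) * g⁻¹ = v at v2 h3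
  generalize a * b = w at w2 h3
  calc (w * v) ^ 2 ^ 2 = w * (v * (w * v * w)) * v * (w * v) := by
        simp only [pow_succ, pow_zero, one_mul, mul_one, Nat.reduceMul, mul_assoc]
    _ = 1 := by rw [h3.eq]; simp only [mul_assoc, sq_mul_cancel w2, sq_mul_cancel v2, v2, one_mul]

/-- the key configuration that forces `p = 3` -/
theorem no_i (IH : IHT.{u} (Nat.card G) p) {a u x c : G} (ha : a ∈ E) (hu : u ∈ E) (hx : x ∈ E)
    (hc : c ∈ E) (au : a * u = u * a) (ax : a * x = x * a) (ux : u * x ≠ x * u)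
    (ac : a * c ≠ c * a) (cu : c * u = u * c) : c * x = x * c := by
  by_contra cx
  have a1 : a ≠ 1 := fun e => ac (by simp [e])
  have u2 := T.sq u hu
  have x2 := T.sq x hx
  have a2 := T.sq a ha
  have r := (T.ord u hu x hx).resolve_left ux
  have hx' := T.cj hx hu
  have ax' : a * (x * u * x) = x * u * x * a := (Commute.mul_right (Commute.mul_right ax au) ax).eq
  have back : ∀ {k : ℕ}, k.Coprime p → c * (u * x) ^ k ≠ (u * x) ^ k * c := fun hk e => cx (by
    rw [← sq_mul_cancel u2 x]; exact (Commute.mul_right cu (comm_of_pow r hk e)).eq)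
  have h1 := T.typeI IH ha hx hc ax (fun h => ux (T.cent_eq ha hx hu h a1 au.symm)) ac (Ne.symm cx)
  have h2 := T.typeI IH ha hx' hc ax' (fun h => ux (by
      have := T.cent_eq ha hx' hx h a1 ax.symm
      rwa [← mul_assoc, sq_mul_cancel x2, mul_sq_cancel x2] at this)) ac fun e => back T.cop2 (by
    rw [pow_two, mul_assoc u x, ← mul_assoc x]; exact (Commute.mul_right cu e.symm).eq)
  have y1 : Commute (u * x * (a * c * a) * (u * x)⁻¹) c := by
    have := (show Commute _ _ from h1).conj (u * x)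
    rwa [show u * x * (x * c * x) * (u * x)⁻¹ = c by
      rw [mul_inv_rev, inv_eq_of_sq x2, inv_eq_of_sq u2]
      simp only [mul_assoc, sq_mul_cancel x2]
      rw [← mul_assoc, ← cu, mul_sq_cancel u2]] at this
  have y2 : Commute (u * x * (a * c * a) * (u * x)⁻¹) (x * c * x) := by
    have := (show Commute _ _ from h2).conj (u * x)
    rwa [show u * x * (x * u * x * c * (x * u * x)) * (u * x)⁻¹ = x * c * x by
      rw [mul_inv_rev, inv_eq_of_sq x2, inv_eq_of_sq u2]
      simp only [mul_assoc, sq_mul_cancel x2, sq_mul_cancel u2, u2, mul_one]] at this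
  have y3 : Commute _ _ := T.comm_line hc hx cx y1 y2
  have y4 := y3.conj (a * (u * x)⁻¹)
  rw [show a * (u * x)⁻¹ * (u * x * (a * c * a) * (u * x)⁻¹) * (a * (u * x)⁻¹)⁻¹ = c by
    generalize u * x = y
    rw [mul_inv_rev a, inv_eq_of_sq a2]
    simp only [mul_assoc, inv_mul_cancel_left, inv_inv, sq_mul_cancel a2, a2, mul_one],
    show a * (u * x)⁻¹ * x * (a * (u * x)⁻¹)⁻¹ = a * (x * u * x * u * x) * a⁻¹ by
      rw [mul_inv_rev u, inv_eq_of_sq x2, inv_eq_of_sq u2, mul_inv_rev, mul_inv_rev,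
        inv_eq_of_sq x2, inv_eq_of_sq u2]
      simp only [mul_assoc],
    conj_eq_of_comm (Commute.mul_right (Commute.mul_right ax' au) ax).eq] at y4
  exact back T.cop3 (by
    have := (Commute.mul_right cu y4).eq
    simpa only [pow_succ, pow_zero, one_mul, mul_assoc] using this)

end TP

end CfsgSF
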